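import Groth.Agent.QuotBlowLib.Lines
import Groth.Agent.GrassRepLib.Main
import Groth.Agent.BlowBCLib.Chart

/-! The charts of a blow-up in a Koszul-regular sequence as an atlas of the Grassmannian functor. -/

set_option autoImplicit false
set_option backward.isDefEq.respectTransparency false
set_option backward.isDefEq.respectTransparency.types false
set_option linter.style.haveILetI false

universe u

open AlgebraicGeometry CategoryTheory TensorProduct Module

namespace Groth.Agent.QuotBlowLib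

open GrassRepLib HilbDescLib BlowChartLib

variable {R : Type u} [CommRing R] {m : ℕ} (f : Fin (m + 1) → R)

/-- The ideal of the sequence. -/
abbrev ideal : Ideal R := Ideal.span (Set.range f)

/-- The ring of a chart. -/
noncomputable abbrev chart (j : Fin (m + 1)) : CommAlgCat.{u} R :=
  CommAlgCat.of R ↥(BlowUp.affineAlgebra R (ideal f) (f j))

theorem mem_ideal (k : Fin (m + 1)) : f k ∈ ideal f := Ideal.subset_span ⟨k, rfl⟩

/-- The coordinates on a chart. -/
noncomputable def coord (j k : Fin (m + 1)) : chart f j :=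
  frac (I := ideal f) (a := f j) (f k) (mem_ideal f k)

theorem valid_coord (j : Fin (m + 1)) : Valid f j (coord f j) where
  one := frac_self (mem_ideal f j)
  rel k := by
    rw [mul_comm]
    exact (frac_mul (f k) (mem_ideal f k)).symm

theorem exists_pres (hf : LCI.IsKoszulRegularSeq R (List.ofFn f)) (j : Fin (m + 1)) :
    ∃ Ψ : MvPolynomial (Fin m) R →+* chart f j, Function.Surjective Ψ ∧
      (∀ r, Ψ (MvPolynomial.C r) = algebraMap R (chart f j) r) ∧
      (∀ a, Ψ (MvPolynomial.X a) = coord f j (j.succAbove a)) ∧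
      RingHom.ker Ψ = Ideal.ofList (List.ofFn (RegBlowLib.eqn f j)) := by
  obtain ⟨Ψ, hs, hC, hk⟩ := BlowBCLib.exists_chart_pres f j hf (I := ideal f) rfl
  refine ⟨Ψ, hs, hC, fun a => ?_, hk⟩
  have h0 : Ψ (RegBlowLib.eqn f j a) = 0 :=
    RingHom.mem_ker.1 (hk.symm ▸ Ideal.subset_span (List.mem_ofFn.2 ⟨a, rfl⟩))
  rw [RegBlowLib.eqn, map_sub, map_mul, hC, hC, sub_eq_zero] at h0
  have h1 : algebraMap R (chart f j) (f j) * coord f j (j.succAbove a) = algebraMap R (chart f j) (f (j.succAbove a)) :=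
    ((valid_coord f j).rel _).symm
  exact (mul_cancel_left_mem_nonZeroDivisors (BlowChartLib.mem_nonZeroDivisors (I := ideal f) (a := f j))).1
    (h0.trans h1.symm)

theorem chart_hom_ext (hf : LCI.IsKoszulRegularSeq R (List.ofFn f)) {j : Fin (m + 1)} {A : CommAlgCat.{u} R}
    {φ ψ : chart f j ⟶ A} (h : ∀ k, φ.hom (coord f j k) = ψ.hom (coord f j k)) : φ = ψ := by
  obtain ⟨Ψ, hs, hC, hX, -⟩ := exists_pres f hf j
  refine CommAlgCat.hom_ext (AlgHom.ext fun z => ?_)
  obtain ⟨P, rfl⟩ := hs z
  refine RingHom.congr_fun (?_ : φ.hom.toRingHom.comp Ψ = ψ.hom.toRingHom.comp Ψ) P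
  refine MvPolynomial.ringHom_ext (fun r => ?_) fun a => ?_
  · show φ.hom (Ψ _) = ψ.hom (Ψ _)
    rw [hC, φ.hom.commutes, ψ.hom.commutes]
  · show φ.hom (Ψ _) = ψ.hom (Ψ _)
    rw [hX]
    exact h _

theorem exists_chart_hom (hf : LCI.IsKoszulRegularSeq R (List.ofFn f)) {j : Fin (m + 1)} {A : CommAlgCat.{u} R}
    {w : Fin (m + 1) → A} (hw : Valid f j w) : ∃ φ : chart f j ⟶ A, ∀ k, φ.hom (coord f j k) = w k := by
  obtain ⟨Ψ, hs, hC, hX, hk⟩ := exists_pres f hf j
  let ev : MvPolynomial (Fin m) R →+* A := MvPolynomial.eval₂Hom (algebraMap R A) fun a => w (j.succAbove a)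
  have hle : RingHom.ker Ψ ≤ RingHom.ker ev := by
    rw [hk, Ideal.ofList, Ideal.span_le]
    intro y hy
    obtain ⟨a, rfl⟩ := List.mem_ofFn.1 hy
    show ev _ = 0
    rw [RegBlowLib.eqn, map_sub, map_mul]
    simp only [ev, MvPolynomial.eval₂Hom_C, MvPolynomial.eval₂Hom_X']
    rw [hw.rel (j.succAbove a), sub_self]
  let φ : chart f j →+* A := RingHom.liftOfSurjective Ψ hs ⟨ev, hle⟩
  have hφ : ∀ P, φ (Ψ P) = ev P := RingHom.liftOfRightInverse_comp_apply Ψ _ _ ⟨ev, hle⟩
  refine ⟨algHomMk { φ with commutes' := fun r => ?_ }, fun k => ?_⟩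
  · show φ (algebraMap R _ r) = _
    rw [← hC, hφ]
    exact MvPolynomial.eval₂Hom_C _ _ _
  · show φ (coord f j k) = w k
    rcases eq_or_ne k j with rfl | hk
    · rw [(valid_coord f k).one, map_one, hw.one]
    · obtain ⟨a, rfl⟩ := Fin.exists_succAbove_eq hk
      rw [← hX, hφ]
      exact MvPolynomial.eval₂Hom_X' _ _ _

/-- The universal element of a chart. -/
noncomputable def univ (j : Fin (m + 1)) : (Grassmannian.functor (R := R) (M := Mod f) m).obj (chart f j) :=
  line (valid_coord f j)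

theorem map_univ {j : Fin (m + 1)} {A : CommAlgCat.{u} R} (φ : chart f j ⟶ A) :
    (Grassmannian.functor (R := R) (M := Mod f) m).map φ (univ f j) = line ((valid_coord f j).map φ.hom) :=
  map_line (valid_coord f j) φ.hom

/-- The atlas. -/
noncomputable def atlas (hf : LCI.IsKoszulRegularSeq R (List.ofFn f)) :
    Atlas (Grassmannian.functor (R := R) (M := Mod f) m) where
  J := ULift.{u} (Fin (m + 1))
  C j := chart f j.down
  u j := univ f j.down
  d i j := coord f i.down j.down
  inj i A φ ψ h := chart_hom_ext f hf fun k => by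
    rw [map_univ, map_univ] at h
    exact congrFun (line_inj _ _ h) k
  chart i j A φ := by
    constructor
    · rintro ⟨c, hc⟩
      have h := (valid_coord f i.down).map φ.hom
      have hc' : (↑c⁻¹ : A) * φ.hom (coord f i.down j.down) = 1 := by rw [← hc]; exact c.inv_mul
      obtain ⟨ψ, hψ⟩ := exists_chart_hom f hf (h.scale hc')
      refine ⟨ψ, ?_⟩
      rw [map_univ, map_univ, line_scale h hc']
      congr 1
      exact funext hψ
    · rintro ⟨ψ, hψ⟩
      rw [map_univ, map_univ] at hψ
      exact isUnit_of_line_eq _ _ hψ.symm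
  cover A x := by
    by_contra hne
    obtain ⟨p, hp, hle⟩ := Ideal.exists_le_maximal _ hne
    obtain ⟨j, r, w, hw, hr, he⟩ := exists_local (f := f) (A := A) x p
    obtain ⟨ψ, hψ⟩ := exists_chart_hom f hf (A := loc A r) hw
    refine hr (hle (Ideal.subset_span ⟨⟨j⟩, ψ, ?_⟩))
    rw [map_univ]
    refine Eq.trans ?_ he.symm
    congr 1
    exact funext hψ

end Groth.Agent.QuotBlowLib
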