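import Mathlib
import Groth.Agent.GrassRepLib.Free

/-! Lines in the quotient of a free module by one relation. -/

set_option autoImplicit false
set_option backward.isDefEq.respectTransparency false
set_option backward.isDefEq.respectTransparency.types false
set_option linter.style.haveILetI false

universe u

open TensorProduct Module

namespace Groth.Agent.QuotBlowLib

open GrassRepLib

variable {R : Type u} [CommRing R] {m : ℕ} (f : Fin (m + 1) → R)

/-- The module with one relation. -/
abbrev Mod : Type u := (Fin (m + 1) → R) ⧸ Submodule.span R {f}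

variable {A : Type u} [CommRing A] [Algebra R A]

variable (A) in
/-- The standard generators. -/
noncomputable def gen (k : Fin (m + 1)) : A ⊗[R] Mod f := (1 : A) ⊗ₜ Submodule.Quotient.mk (Pi.single k 1)

variable (A) in
/-- The presentation. -/
noncomputable def pres : (Fin (m + 1) → A) →ₗ[A] A ⊗[R] Mod f := Fintype.linearCombination A (gen f A)

theorem pres_apply (w : Fin (m + 1) → A) : pres f A w = ∑ k, w k • gen f A k := Fintype.linearCombination_apply _ _ _

theorem pres_rel : pres f A (fun k => algebraMap R A (f k)) = 0 := by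
  have h : ∀ k, algebraMap R A (f k) • gen f A k =
      (1 : A) ⊗ₜ[R] (Submodule.Quotient.mk (f k • (Pi.single k (1 : R) : Fin (m + 1) → R)) : Mod f) := fun k => by
    rw [gen, TensorProduct.smul_tmul', smul_eq_mul, mul_one, Algebra.algebraMap_eq_smul_one, TensorProduct.smul_tmul,
      ← Submodule.Quotient.mk_smul]
  rw [pres_apply, Finset.sum_congr rfl fun k _ => h k, ← TensorProduct.tmul_sum]
  simp only [← Submodule.mkQ_apply, ← map_sum]
  rw [← pi_eq_sum_univ' f, Submodule.mkQ_apply, (Submodule.Quotient.mk_eq_zero _).2 (Submodule.mem_span_singleton_self f),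
    TensorProduct.tmul_zero]

theorem hom_ext {P : Type*} [AddCommGroup P] [Module A P] {g g' : A ⊗[R] Mod f →ₗ[A] P}
    (h : ∀ k, g (gen f A k) = g' (gen f A k)) : g = g' := by
  refine LinearMap.ext fun x => ?_
  induction x using TensorProduct.induction_on with
  | zero => simp
  | add x y hx hy => rw [map_add, map_add, hx, hy]
  | tmul a y =>
  obtain ⟨y, rfl⟩ := Submodule.mkQ_surjective _ y
  show g (a ⊗ₜ[R] Submodule.Quotient.mk y) = g' (a ⊗ₜ[R] Submodule.Quotient.mk y)
  have key : a ⊗ₜ[R] (Submodule.Quotient.mk y : Mod f) = ∑ k, (y k • a) • gen f A k := by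
    conv_lhs => rw [pi_eq_sum_univ' y, ← Submodule.mkQ_apply, map_sum, TensorProduct.tmul_sum]
    refine Finset.sum_congr rfl fun k _ => ?_
    rw [map_smul, TensorProduct.tmul_smul, gen, TensorProduct.smul_tmul', TensorProduct.smul_tmul', smul_eq_mul, mul_one]
    rfl
  simp only [key, map_sum, map_smul, h]

/-- A vector with `j`-th coordinate one, proportional to the relation. -/
structure Valid (j : Fin (m + 1)) (w : Fin (m + 1) → A) : Prop where
  one : w j = 1
  rel : ∀ k, algebraMap R A (f k) = algebraMap R A (f j) * w k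

variable {f} {j : Fin (m + 1)} {w : Fin (m + 1) → A}

theorem Valid.map (h : Valid f j w) {B : Type u} [CommRing B] [Algebra R B] (φ : A →ₐ[R] B) :
    Valid f j (fun k => φ (w k)) where
  one := by rw [h.one, map_one]
  rel k := by rw [← φ.commutes, ← φ.commutes (f j), ← map_mul, h.rel]

theorem Valid.scale (h : Valid f j w) {i : Fin (m + 1)} {c : A} (hc : c * w i = 1) :
    Valid f i (fun k => c * w k) where
  one := hc
  rel k := by
    rw [h.rel i, h.rel k]
    linear_combination (-(algebraMap R A (f j) * w k)) * hc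

/-- Before extending scalars. -/
noncomputable def preMap (j : Fin (m + 1)) (w : Fin (m + 1) → A) : (Fin (m + 1) → R) →ₗ[R] (Fin m → A) :=
  LinearMap.pi fun a => (Algebra.linearMap R A).comp (LinearMap.proj (j.succAbove a)) -
    (LinearMap.mulRight R (w (j.succAbove a))).comp ((Algebra.linearMap R A).comp (LinearMap.proj j))

theorem preMap_apply (j : Fin (m + 1)) (w : Fin (m + 1) → A) (x : Fin (m + 1) → R)
    (a : Fin m) : preMap (R := R) j w x a = algebraMap R A (x (j.succAbove a)) - algebraMap R A (x j) * w (j.succAbove a) := rfl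

theorem preMap_rel (h : Valid f j w) : Submodule.span R {f} ≤ LinearMap.ker (preMap (R := R) j w) := by
  rw [Submodule.span_singleton_le_iff_mem, LinearMap.mem_ker]
  ext a
  rw [preMap_apply, h.rel (j.succAbove a), sub_self]
  rfl

/-- The quotient by a line. -/
noncomputable def lineMap (h : Valid f j w) : A ⊗[R] Mod f →ₗ[A] (Fin m → A) :=
  ((Submodule.span R {f}).liftQ (preMap (R := R) j w) (preMap_rel h)).liftBaseChange A

theorem lineMap_gen (h : Valid f j w) (k : Fin (m + 1)) :
    lineMap h (gen f A k) = preMap (R := R) j w (Pi.single k 1) := by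
  rw [lineMap, gen, LinearMap.liftBaseChange_tmul, one_smul, Submodule.liftQ_apply]

theorem lineMap_gen_above (h : Valid f j w) (a : Fin m) :
    lineMap h (gen f A (j.succAbove a)) = Pi.single a 1 := by
  ext b
  rw [lineMap_gen, preMap_apply]
  rcases eq_or_ne b a with rfl | hb
  · rw [Pi.single_eq_same, Pi.single_eq_of_ne (Fin.succAbove_ne j b).symm, Pi.single_eq_same, map_one, map_zero,
      zero_mul, sub_zero]
  · rw [Pi.single_eq_of_ne (fun e => hb (Fin.succAbove_right_injective e)), Pi.single_eq_of_ne (Fin.succAbove_ne j a).symm,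
      Pi.single_eq_of_ne hb, map_zero, zero_mul, sub_zero]

theorem lineMap_gen_self (h : Valid f j w) : lineMap h (gen f A j) = fun a => -w (j.succAbove a) := by
  ext a
  rw [lineMap_gen, preMap_apply, Pi.single_eq_same, Pi.single_eq_of_ne (Fin.succAbove_ne j a), map_zero, map_one, one_mul,
    zero_sub]

theorem lineMap_pres (h : Valid f j w) (x : Fin (m + 1) → A) :
    lineMap h (pres f A x) = fun a => x (j.succAbove a) - x j * w (j.succAbove a) := by
  rw [pres_apply, map_sum, Fin.sum_univ_succAbove _ j]
  simp only [map_smul, lineMap_gen_self, lineMap_gen_above]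
  rw [← pi_eq_sum_univ' (fun a => x (j.succAbove a))]
  ext a
  simp only [Pi.add_apply, Pi.smul_apply, smul_eq_mul]
  ring

theorem lineMap_surjective (h : Valid f j w) : Function.Surjective (lineMap h) := fun v =>
  ⟨∑ a, v a • gen f A (j.succAbove a), by
    simp only [map_sum, map_smul, lineMap_gen_above]
    exact (pi_eq_sum_univ' v).symm⟩

/-- The point of the Grassmannian. -/
noncomputable def line (h : Valid f j w) : Grassmannian A (A ⊗[R] Mod f) m where
  toSubmodule := LinearMap.ker (lineMap h)
  finite_quotient := Module.Finite.equiv ((lineMap h).quotKerEquivOfSurjective (lineMap_surjective h)).symm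
  projective_quotient := Module.Projective.of_equiv ((lineMap h).quotKerEquivOfSurjective (lineMap_surjective h)).symm
  rankAtStalk_eq p := by
    haveI : Nontrivial A := p.nontrivial
    rw [Module.rankAtStalk_eq_of_equiv ((lineMap h).quotKerEquivOfSurjective (lineMap_surjective h)),
      Module.rankAtStalk_eq_finrank_of_free]
    simp

theorem pres_mem_line (h : Valid f j w) : pres f A w ∈ (line h).toSubmodule := by
  show lineMap h (pres f A w) = 0
  rw [lineMap_pres, h.one]
  ext a
  simp

theorem eq_smul_of_mem_line (h : Valid f j w) {v : Fin (m + 1) → A} (hv : pres f A v ∈ (line h).toSubmodule)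
    (k : Fin (m + 1)) : v k = v j * w k := by
  have h0 : lineMap h (pres f A v) = 0 := hv
  rw [lineMap_pres] at h0
  rcases eq_or_ne k j with rfl | hk
  · rw [h.one, mul_one]
  · obtain ⟨a, rfl⟩ := Fin.exists_succAbove_eq hk
    exact sub_eq_zero.1 (congrFun h0 a)

variable (f) in
/-- The map from the coordinates away from `j`. -/
noncomputable def sideMap (N : Submodule A (A ⊗[R] Mod f)) (j : Fin (m + 1)) :
    (Fin m → A) →ₗ[A] (A ⊗[R] Mod f) ⧸ N :=
  Fintype.linearCombination A fun a => Submodule.Quotient.mk (gen f A (j.succAbove a))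

theorem sideMap_apply (N : Submodule A (A ⊗[R] Mod f)) (j : Fin (m + 1)) (x : Fin m → A) :
    sideMap f N j x = N.mkQ (∑ a, x a • gen f A (j.succAbove a)) := by
  rw [sideMap, Fintype.linearCombination_apply, map_sum]
  rfl

variable {N : Grassmannian A (A ⊗[R] Mod f) m}

theorem sideMap_surjective (hj : w j = 1) (hN : pres f A w ∈ N.toSubmodule) :
    Function.Surjective (sideMap f N.toSubmodule j) := by
  have hgen : ∀ k, N.toSubmodule.mkQ (gen f A k) ∈ LinearMap.range (sideMap f N.toSubmodule j) := by
    intro k
    rcases eq_or_ne k j with rfl | hk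
    · refine ⟨fun a => -w (k.succAbove a), ?_⟩
      have h0 : N.toSubmodule.mkQ (pres f A w) = 0 := (Submodule.Quotient.mk_eq_zero _).2 hN
      rw [pres_apply, Fin.sum_univ_succAbove _ k, hj, one_smul, map_add] at h0
      rw [sideMap_apply, eq_neg_of_add_eq_zero_left h0, ← map_neg]
      congr 1
      rw [← Finset.sum_neg_distrib]
      exact Finset.sum_congr rfl fun a _ => neg_smul (R := A) (M := A ⊗[R] Mod f) _ _
    · obtain ⟨a, rfl⟩ := Fin.exists_succAbove_eq hk
      exact ⟨Pi.single a 1, by rw [sideMap, Fintype.linearCombination_apply_single, one_smul]; rfl⟩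
  intro q
  obtain ⟨x, rfl⟩ := N.toSubmodule.mkQ_surjective q
  refine LinearMap.mem_range.1 ?_
  have : LinearMap.range N.toSubmodule.mkQ ≤ LinearMap.range (sideMap f N.toSubmodule j) := by
    rintro _ ⟨x, rfl⟩
    induction x using TensorProduct.induction_on with
    | zero => rw [map_zero]; exact zero_mem _
    | tmul a y =>
      obtain ⟨y, rfl⟩ := Submodule.mkQ_surjective _ y
      rw [pi_eq_sum_univ' y, map_sum, TensorProduct.tmul_sum, map_sum]
      refine Submodule.sum_mem _ fun k _ => ?_
      rw [show a ⊗ₜ[R] (Submodule.span R {f}).mkQ (y k • Pi.single k 1) = (y k • a) • gen f A k by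
        rw [map_smul, TensorProduct.tmul_smul, gen, TensorProduct.smul_tmul', TensorProduct.smul_tmul', smul_eq_mul, mul_one]
        rfl, map_smul]
      exact Submodule.smul_mem _ _ (hgen k)
    | add x y hx hy => rw [map_add]; exact add_mem hx hy
  exact this ⟨x, rfl⟩

theorem valid_of_mem (hj : w j = 1) (hN : pres f A w ∈ N.toSubmodule) : Valid f j w := by
  refine ⟨hj, fun k => ?_⟩
  let x : Fin (m + 1) → A := (fun k => algebraMap R A (f k)) - algebraMap R A (f j) • w
  have hxj : x j = 0 := by
    show algebraMap R A (f j) - algebraMap R A (f j) * w j = 0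
    rw [hj, mul_one, sub_self]
  have hx : pres f A x ∈ N.toSubmodule := by
    rw [map_sub, pres_rel, map_smul, zero_sub]
    exact neg_mem (Submodule.smul_mem _ _ hN)
  have hinj := injective_of_surjective_rank N.rankAtStalk_eq _ (sideMap_surjective hj hN)
  have h0 : (fun a => x (j.succAbove a)) = 0 := hinj (by
    rw [map_zero, sideMap_apply]
    rw [pres_apply, Fin.sum_univ_succAbove _ j, hxj, zero_smul, zero_add] at hx
    exact (Submodule.Quotient.mk_eq_zero _).2 hx)
  rcases eq_or_ne k j with rfl | hk
  · rw [hj, mul_one]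
  · obtain ⟨a, rfl⟩ := Fin.exists_succAbove_eq hk
    exact sub_eq_zero.1 (congrFun h0 a)

theorem eq_line (h : Valid f j w) (hN : pres f A w ∈ N.toSubmodule) : N = line h := by
  have hinj := injective_of_surjective_rank N.rankAtStalk_eq _ (sideMap_surjective h.one hN)
  have he : N.toSubmodule.mkQ = sideMap f N.toSubmodule j ∘ₗ lineMap h := hom_ext f fun k => by
    rw [LinearMap.comp_apply]
    rcases eq_or_ne k j with rfl | hk
    · rw [lineMap_gen_self, sideMap_apply]
      have h0 : N.toSubmodule.mkQ (pres f A w) = 0 := (Submodule.Quotient.mk_eq_zero _).2 hN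
      rw [pres_apply, Fin.sum_univ_succAbove _ k, h.one, one_smul, map_add] at h0
      rw [eq_neg_of_add_eq_zero_left h0, ← map_neg]
      congr 1
      rw [← Finset.sum_neg_distrib]
      exact (Finset.sum_congr rfl fun a _ => neg_smul (R := A) (M := A ⊗[R] Mod f) _ _).symm
    · obtain ⟨a, rfl⟩ := Fin.exists_succAbove_eq hk
      rw [lineMap_gen_above, sideMap, Fintype.linearCombination_apply_single, one_smul]
      rfl
  refine Grassmannian.ext ?_
  show N.toSubmodule = LinearMap.ker (lineMap h)
  conv_lhs => rw [← Submodule.ker_mkQ N.toSubmodule, he]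
  rw [LinearMap.ker_comp_of_ker_eq_bot _ (LinearMap.ker_eq_bot.2 hinj)]

theorem line_inj (h : Valid f j w) {w' : Fin (m + 1) → A} (h' : Valid f j w') (e : line h = line h') : w = w' :=
  funext fun k => by
    rw [eq_smul_of_mem_line h (v := w') (e ▸ pres_mem_line h') k, h'.one, one_mul]

theorem ext₁_pres {B : Type u} [CommRing B] [Algebra R B] (φ : A →ₐ[R] B) (x : Fin (m + 1) → A) :
    ext₁ (Mod f) φ (pres f A x) = pres f B (fun k => φ (x k)) := by
  simp only [pres_apply, map_sum, ext₁_smul, gen, ext₁_tmul, map_one]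

theorem map_line (h : Valid f j w) {B : Type u} [CommRing B] [Algebra R B] (φ : A →ₐ[R] B) :
    Grassmannian.map φ (line h) = line (h.map φ) :=
  eq_line (h.map φ) (by rw [← ext₁_pres]; exact ext₁_mem_map φ _ (pres_mem_line h))

theorem line_scale (h : Valid f j w) {i : Fin (m + 1)} {c : A} (hc : c * w i = 1) : line h = line (h.scale hc) :=
  eq_line _ (by
    rw [show (fun k => c * w k) = c • w from rfl, map_smul]
    exact Submodule.smul_mem _ _ (pres_mem_line h))

theorem isUnit_of_line_eq (h : Valid f j w) {i : Fin (m + 1)} {v : Fin (m + 1) → A} (h' : Valid f i v)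
    (e : line h = line h') : IsUnit (w i) :=
  IsUnit.of_mul_eq_one (v j) (by
    rw [mul_comm, ← eq_smul_of_mem_line h (v := v) (e ▸ pres_mem_line h') i, h'.one])

theorem exists_local (N : Grassmannian A (A ⊗[R] Mod f) m) (p : Ideal A) [p.IsPrime] :
    ∃ (j : Fin (m + 1)) (r : A) (w : Fin (m + 1) → Localization.Away r) (h : Valid f j w), r ∉ p ∧
      Grassmannian.map (IsScalarTower.toAlgHom R A (Localization.Away r)) N = line h := by
  classical
  let Q := (A ⊗[R] Mod f) ⧸ N.toSubmodule
  let κ := p.ResidueField
  let g : Fin (m + 1) → κ ⊗[A] Q := fun k => 1 ⊗ₜ N.toSubmodule.mkQ (gen f A k)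
  have hspan : Submodule.span κ (Set.range g) = ⊤ := by
    have htop : Submodule.span A (Set.range fun k => N.toSubmodule.mkQ (gen f A k)) = ⊤ := by
      refine top_le_iff.1 fun q _ => ?_
      obtain ⟨x, rfl⟩ := N.toSubmodule.mkQ_surjective q
      induction x using TensorProduct.induction_on with
      | zero => rw [map_zero]; exact zero_mem _
      | tmul a y =>
        obtain ⟨y, rfl⟩ := Submodule.mkQ_surjective _ y
        rw [pi_eq_sum_univ' y, map_sum, TensorProduct.tmul_sum, map_sum]
        refine Submodule.sum_mem _ fun k _ => ?_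
        rw [show a ⊗ₜ[R] (Submodule.span R {f}).mkQ (y k • Pi.single k 1) = (y k • a) • gen f A k by
          rw [map_smul, TensorProduct.tmul_smul, gen, TensorProduct.smul_tmul', TensorProduct.smul_tmul', smul_eq_mul, mul_one]
          rfl, map_smul]
        exact Submodule.smul_mem _ _ (Submodule.subset_span ⟨k, rfl⟩)
      | add x y hx hy => rw [map_add]; exact add_mem (hx (Submodule.mem_top)) (hy (Submodule.mem_top))
    refine top_le_iff.1 fun z hz => ?_
    clear hz
    induction z using TensorProduct.induction_on with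
    | zero => exact zero_mem _
    | tmul c q =>
      rw [show c ⊗ₜ[A] q = c • ((1 : κ) ⊗ₜ[A] q) by rw [TensorProduct.smul_tmul', smul_eq_mul, mul_one]]
      refine Submodule.smul_mem _ _ ?_
      have hq : q ∈ Submodule.span A (Set.range fun k => N.toSubmodule.mkQ (gen f A k)) := htop ▸ Submodule.mem_top
      induction hq using Submodule.span_induction with
      | mem x hx => obtain ⟨k, rfl⟩ := hx; exact Submodule.subset_span ⟨k, rfl⟩
      | zero => rw [TensorProduct.tmul_zero]; exact zero_mem _
      | add x y _ _ hx hy => rw [TensorProduct.tmul_add]; exact add_mem hx hy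
      | smul a x _ hx =>
        rw [TensorProduct.tmul_smul, ← IsScalarTower.algebraMap_smul κ a]
        exact Submodule.smul_mem _ _ hx
    | add x y hx hy => exact add_mem hx hy
  have hrk : Module.finrank κ (κ ⊗[A] Q) = m :=
    ((Module.rankAtStalk_eq (⟨p, inferInstance⟩ : PrimeSpectrum A)).symm).trans (N.rankAtStalk_eq _)
  obtain ⟨b, hb, hbs, -⟩ := Submodule.exists_fun_fin_finrank_span_eq κ (Set.range g)
  choose I hI using hb
  obtain ⟨j, hj⟩ : ∃ j, ∀ a, I a ≠ j := by
    by_contra hn
    push Not at hn
    have := Fintype.card_le_of_surjective I hn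
    rw [Fintype.card_fin, Fintype.card_fin, hspan, finrank_top, hrk] at this
    omega
  let v := sideMap f N.toSubmodule j
  let T := Q ⧸ LinearMap.range v
  have hside : ∀ a, (LinearMap.range v).mkQ (N.toSubmodule.mkQ (gen f A (j.succAbove a))) = 0 := fun a =>
    (Submodule.Quotient.mk_eq_zero _).2 ⟨Pi.single a 1, by
      rw [show v = sideMap f N.toSubmodule j from rfl, sideMap, Fintype.linearCombination_apply_single, one_smul]; rfl⟩
  have hT : Subsingleton (κ ⊗[A] T) := by
    let π : κ ⊗[A] Q →ₗ[κ] κ ⊗[A] T := (LinearMap.range v).mkQ.baseChange κ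
    have hπs : Function.Surjective π := LinearMap.baseChange_surjective κ (Submodule.mkQ_surjective _)
    have hπ : π = 0 := LinearMap.ker_eq_top.1 (top_le_iff.1 (by
      rw [← hspan, ← hbs, Submodule.span_le]
      rintro _ ⟨a, rfl⟩
      obtain ⟨a', ha'⟩ := Fin.exists_succAbove_eq (hj a)
      show π (b a) = 0
      rw [← hI a, ← ha']
      show (1 : κ) ⊗ₜ[A] (LinearMap.range v).mkQ (N.toSubmodule.mkQ (gen f A (j.succAbove a'))) = 0
      rw [hside, TensorProduct.tmul_zero]))
    refine subsingleton_of_forall_eq 0 fun z => ?_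
    obtain ⟨z', rfl⟩ := hπs z
    rw [hπ]
    rfl
  have hns : (⟨p, inferInstance⟩ : PrimeSpectrum A) ∉ Module.support A T := fun h =>
    not_nontrivial_iff_subsingleton.2 hT ((Module.mem_support_iff_nontrivial_residueField_tensorProduct (⟨p, inferInstance⟩ : PrimeSpectrum A)).1 h)
  rw [Module.mem_support_iff_of_finite, SetLike.not_le_iff_exists] at hns
  obtain ⟨r, hr, hrp⟩ := hns
  obtain ⟨c, hc⟩ : r • N.toSubmodule.mkQ (gen f A j) ∈ LinearMap.range v :=
    (Submodule.Quotient.mk_eq_zero _).1 (by
      rw [Submodule.Quotient.mk_smul]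
      exact Module.mem_annihilator.1 hr _)
  let w₀ : Fin (m + 1) → A := Fin.insertNth j r fun a => -c a
  have hw₀ : pres f A w₀ ∈ N.toSubmodule := by
    rw [← Submodule.Quotient.mk_eq_zero, ← Submodule.mkQ_apply, pres_apply, Fin.sum_univ_succAbove _ j]
    simp only [w₀, Fin.insertNth_apply_same, Fin.insertNth_apply_succAbove, map_add, map_smul, ← hc]
    rw [show v c = sideMap f N.toSubmodule j c from rfl, sideMap_apply, ← map_add, ← Finset.sum_add_distrib]
    simp
  let φ := IsScalarTower.toAlgHom R A (Localization.Away r)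
  have hu : IsUnit (φ r) := IsLocalization.Away.algebraMap_isUnit r
  let w : Fin (m + 1) → Localization.Away r := fun k => (↑hu.unit⁻¹ : Localization.Away r) * φ (w₀ k)
  have hwj : w j = 1 := by
    show _ * φ (w₀ j) = 1
    rw [show w₀ j = r from Fin.insertNth_apply_same _ _ _]
    exact hu.val_inv_mul
  have hmem : pres f (Localization.Away r) w ∈ (Grassmannian.map φ N).toSubmodule := by
    rw [show w = (↑hu.unit⁻¹ : Localization.Away r) • (fun k => φ (w₀ k)) from rfl, map_smul, ← ext₁_pres]
    exact Submodule.smul_mem _ _ (ext₁_mem_map φ N hw₀)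
  exact ⟨j, r, w, valid_of_mem hwj hmem, hrp, eq_line _ hmem⟩

end Groth.Agent.QuotBlowLib
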