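import Groth.Agent.QuotBlowLib.Atlas
import Groth.Agent.BlowChartLib.Transport
import Groth.Agent.BlowChartLib.AffineCrit
import Groth.Agent.TwistShriek.SpecIdeal

/-! The blow-up in a Koszul-regular sequence is the scheme glued from the atlas. -/

set_option autoImplicit false
set_option backward.isDefEq.respectTransparency false
set_option backward.isDefEq.respectTransparency.types false
set_option backward.defeqAttrib.useBackward true
set_option linter.style.haveILetI false
set_option maxHeartbeats 800000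

universe u

open AlgebraicGeometry CategoryTheory CategoryTheory.Limits

namespace Groth.Agent.QuotBlowLib

open GrassRepLib HilbDescLib BlowChartLib

variable {R : Type u} [CommRing R]

theorem isEffCartier_test (I : Ideal R) (A : CommAlgCat.{u} R) {t : A} (ht : t ∈ nonZeroDivisors A)
    (hI : I.map (algebraMap R A) = Ideal.span {t}) :
    BlowUp.IsEffCartierIdeal ((Curv2.idealSheaf R I).comap (Spec.map (CommRingCat.ofHom (algebraMap R A)))) := fun x => by
  refine ⟨⟨⊤, isAffineOpen_top _⟩, trivial, (Scheme.ΓSpecIso (CommRingCat.of A)).inv t, ?_, ?_⟩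
  · let e : A ≃+* Γ(Spec (CommRingCat.of A), ⊤) :=
      (Scheme.ΓSpecIso (CommRingCat.of A)).symm.commRingCatIsoToRingEquiv
    show e t ∈ _
    exact MulEquivClass.map_nonZeroDivisors e ▸ ⟨_, ht, rfl⟩
  · rw [ideal_comap_idealSheaf]
    have h1 : secHom (Spec.map (CommRingCat.ofHom (algebraMap R A))) ⊤ = (Scheme.ΓSpecIso (CommRingCat.of A)).inv.hom.comp (algebraMap R A) := by
      rw [secHom, show (Scheme.ΓSpecIso (CommRingCat.of A)).inv.hom.comp (algebraMap R A) =
        (CommRingCat.ofHom (algebraMap R A) ≫ (Scheme.ΓSpecIso (CommRingCat.of A)).inv).hom from rfl,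
        Scheme.ΓSpecIso_inv_naturality]
      congr 2
    rw [h1, ← Ideal.map_map, hI, Ideal.map_span, Set.image_singleton]

section blowUp

variable {I : Ideal R} {B : Scheme.{u}} {b : B ⟶ Spec (CommRingCat.of R)}
  (hb : BlowUp.IsBlowUp b (Curv2.idealSheaf R I))

include hb in
theorem test_ext (A : CommAlgCat.{u} R) {t : A} (ht : t ∈ nonZeroDivisors A)
    (hI : I.map (algebraMap R A) = Ideal.span {t}) (g g' : test A ⟶ Over.mk b) : g = g' := by
  obtain ⟨l, -, hl⟩ := hb.2 _ (test A).hom (isEffCartier_test I A ht hI)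
  exact Over.OverMorphism.ext ((hl _ (Over.w g)).trans (hl _ (Over.w g')).symm)

include hb in
theorem exists_chart (a : R) (ha : a ∈ I) :
    ∃ g : test (CommAlgCat.of R ↥(BlowUp.affineAlgebra R I a)) ⟶ Over.mk b, IsOpenImmersion g.left := by
  let 𝓘 := Curv2.idealSheaf R I
  let U : (Spec (CommRingCat.of R)).affineOpens := ⟨⊤, isAffineOpen_top _⟩
  let ε : R ≃+* Γ(Spec (CommRingCat.of R), ⊤) := (Scheme.ΓSpecIso (CommRingCat.of R)).symm.commRingCatIsoToRingEquiv
  have hU : 𝓘.ideal U = I.map ε.toRingHom := by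
    simp [𝓘, U, Curv2.idealSheaf, Scheme.IdealSheafData.ofIdealTop_ideal]
    rfl
  obtain ⟨e, he⟩ := isOpenImmersion_hom 𝓘 U (ε a) b (hU ▸ Ideal.mem_map_of_mem _ ha) hb
  obtain ⟨η, hη⟩ := exists_equiv ε hU.symm ha
  let e' := e ≪≫ Scheme.Spec.mapIso η.toCommRingCatIso.op
  have h : e'.hom ≫ Spec.map (CommRingCat.ofHom (algebraMap R ↥(BlowUp.affineAlgebra R I a))) =
      (chartOpen 𝓘 U (ε a) b).ι ≫ b := by
    rw [← he, Iso.trans_hom, Category.assoc]
    refine congrArg (e.hom ≫ ·) ?_
    show Spec.map η.toCommRingCatIso.hom ≫ Spec.map _ = Spec.map _ ≫ (isAffineOpen_top (Spec (CommRingCat.of R))).fromSpec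
    rw [IsAffineOpen.fromSpec_top, Scheme.isoSpec_Spec_inv, ← Spec.map_comp, ← Spec.map_comp]
    exact congrArg Spec.map (CommRingCat.hom_ext hη)
  refine ⟨Over.homMk (e'.inv ≫ (chartOpen 𝓘 U (ε a) b).ι) ?_, ?_⟩
  · show (e'.inv ≫ _) ≫ b = Spec.map _
    rw [Category.assoc, ← h, Iso.inv_hom_id_assoc]
  · show IsOpenImmersion (e'.inv ≫ _)
    infer_instance

end blowUp

variable {m : ℕ} (f : Fin (m + 1) → R) (hf : LCI.IsKoszulRegularSeq R (List.ofFn f))
  {B : Scheme.{u}} {b : B ⟶ Spec (CommRingCat.of R)} (hb : BlowUp.IsBlowUp b (Curv2.idealSheaf R (ideal f)))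

/-- A chart in the blow-up. -/
noncomputable def chartIn (j : ULift.{u} (Fin (m + 1))) : test (chart f j.down) ⟶ Over.mk b :=
  (exists_chart hb (f j.down) (mem_ideal f j.down)).choose

instance isOpenImmersion_chartIn (j : ULift.{u} (Fin (m + 1))) : IsOpenImmersion (chartIn f hb j).left :=
  (exists_chart hb (f j.down) (mem_ideal f j.down)).choose_spec

include hb in
theorem chartIn_covers (x : B) : ∃ (j : ULift.{u} (Fin (m + 1))) (z : (test (chart f j.down)).left),
    (chartIn f hb j).left z = x := by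
  obtain ⟨a, ha, V, e, hx, he⟩ := exists_affine_chart R (ideal f) b hb (Set.range f) rfl x
  obtain ⟨k, rfl⟩ := ha
  refine ⟨⟨k⟩, e.hom ⟨x, hx⟩, ?_⟩
  let g : test (chart f k) ⟶ Over.mk b := Over.homMk (e.inv ≫ V.ι) (by
    show (e.inv ≫ V.ι) ≫ b = Spec.map _
    rw [Category.assoc, ← he, Iso.inv_hom_id_assoc])
  have hg : chartIn f hb ⟨k⟩ = g := test_ext hb (chart f k)
    (BlowChartLib.mem_nonZeroDivisors (I := ideal f) (a := f k)) (map_eq_span (mem_ideal f k)) _ g
  rw [hg]
  show (e.hom ≫ e.inv ≫ V.ι) ⟨x, hx⟩ = x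
  rw [Iso.hom_inv_id_assoc]
  rfl

include hf in
theorem exists_transition (i j : ULift.{u} (Fin (m + 1))) :
    ∃ τ : chart f j.down ⟶ loc (chart f i.down) (coord f i.down j.down),
      (Module.Grassmannian.functor (R := R) (M := Mod f) m).map τ (univ f j.down) =
        (Module.Grassmannian.functor (R := R) (M := Mod f) m).map (locMap (chart f i.down) (coord f i.down j.down)) (univ f i.down) ∧
      tmap (locMap (chart f i.down) (coord f i.down j.down)) ≫ chartIn f hb i = tmap τ ≫ chartIn f hb j := by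
  let L := loc (chart f i.down) (coord f i.down j.down)
  let l := locMap (chart f i.down) (coord f i.down j.down)
  obtain ⟨τ, hτ⟩ := ((atlas f hf).chart i j L l).1 (IsLocalization.Away.algebraMap_isUnit (coord f i.down j.down))
  refine ⟨τ, hτ, test_ext hb L (t := l.hom (algebraMap R (chart f i.down) (f i.down))) ?_ ?_ _ _⟩
  · exact (IsLocalization.map_nonZeroDivisors_le (Submonoid.powers (coord f i.down j.down)) L)
      ⟨_, BlowChartLib.mem_nonZeroDivisors (I := ideal f) (a := f i.down), rfl⟩
  · rw [show algebraMap R L = l.hom.toRingHom.comp (algebraMap R (chart f i.down)) from l.hom.comp_algebraMap.symm,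
      ← Ideal.map_map, map_eq_span (mem_ideal f i.down), Ideal.map_span, Set.image_singleton]
    rfl

include hf in
theorem chartIn_eq_iff {i j : ULift.{u} (Fin (m + 1))} {A : CommAlgCat.{u} R} (a : test A ⟶ test (chart f i.down))
    (a' : test A ⟶ test (chart f j.down)) :
    a ≫ chartIn f hb i = a' ≫ chartIn f hb j ↔
      (Module.Grassmannian.functor (R := R) (M := Mod f) m).map (testHom a) (univ f i.down) =
        (Module.Grassmannian.functor (R := R) (M := Mod f) m).map (testHom a') (univ f j.down) := by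
  classical
  let F := Module.Grassmannian.functor (R := R) (M := Mod f) m
  let d := coord f i.down j.down
  obtain ⟨τ, hτ, hι⟩ := exists_transition f hf hb i j
  -- the factorisation, once the coordinate is invertible
  have hfac : IsUnit ((testHom a).hom d) → ∃ φ' : loc (chart f i.down) d ⟶ A, locMap (chart f i.down) d ≫ φ' = testHom a := by
    intro hu
    refine ⟨algHomMk (IsLocalization.liftAlgHom (M := Submonoid.powers d) (f := (testHom a).hom) (fun y => ?_)), ?_⟩
    · obtain ⟨n, hn⟩ := y.2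
      rw [← hn, map_pow]
      exact hu.pow n
    · exact CommAlgCat.hom_ext (AlgHom.ext fun z => IsLocalization.lift_eq _ z)
  have hmain : ∀ φ' : loc (chart f i.down) d ⟶ A, locMap (chart f i.down) d ≫ φ' = testHom a →
      a ≫ chartIn f hb i = tmap (τ ≫ φ') ≫ chartIn f hb j ∧ F.map (τ ≫ φ') (univ f j.down) = F.map (testHom a) (univ f i.down) := by
    intro φ' hφ'
    refine ⟨?_, ?_⟩
    · rw [← tmap_testHom a, ← hφ', tmap_comp, tmap_comp, Category.assoc, Category.assoc, hι]
    · rw [← map_map, hτ, map_map, hφ']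
  constructor
  · intro h
    have hu : IsUnit ((testHom a).hom d) := by
      by_contra hu
      obtain ⟨p, hp, hdp⟩ := exists_max_ideal_of_mem_nonunits hu
      let q : PrimeSpectrum (chart f i.down) := ⟨p.comap (testHom a).hom.toRingHom, inferInstance⟩
      have hq : a.left ⟨p, inferInstance⟩ = q := by rw [testHom_left a]; rfl
      let W := (chartIn f hb i).left ⁻¹ᵁ (chartIn f hb j).left.opensRange
      have hqW : q ∈ W := by
        show (chartIn f hb i).left q ∈ Set.range (chartIn f hb j).left.base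
        refine ⟨a'.left ⟨p, inferInstance⟩, ?_⟩
        rw [← hq, ← Scheme.Hom.comp_apply, ← Scheme.Hom.comp_apply]
        exact congrArg (fun g : test A ⟶ Over.mk b => g.left ⟨p, inferInstance⟩) h.symm
      obtain ⟨_, ⟨_, ⟨s, rfl⟩, rfl⟩, hqs, hsW⟩ :=
        PrimeSpectrum.isBasis_basic_opens.exists_subset_of_mem_open hqW W.2
      let L := loc (chart f i.down) s
      let l := locMap (chart f i.down) s
      have hrange : Set.range (tmap l ≫ chartIn f hb i).left.base ⊆ Set.range (chartIn f hb j).left.base := by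
        rintro _ ⟨z, rfl⟩
        refine hsW ?_
        show PrimeSpectrum.comap l.hom.toRingHom z ∈ PrimeSpectrum.basicOpen s
        intro hz
        exact (Ideal.IsPrime.ne_top (z : PrimeSpectrum L).isPrime) (Ideal.eq_top_of_isUnit_mem _ hz
          (IsLocalization.Away.algebraMap_isUnit s))
      let χ₀ : test L ⟶ test (chart f j.down) := Over.homMk (IsOpenImmersion.lift (chartIn f hb j).left _ hrange) (by
        rw [← Over.w (chartIn f hb j), ← Category.assoc, IsOpenImmersion.lift_fac]
        exact Over.w (tmap l ≫ chartIn f hb i))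
      let χ := testHom χ₀
      have hn : l.hom (algebraMap R (chart f i.down) (f i.down)) ∈ nonZeroDivisors L :=
        (IsLocalization.map_nonZeroDivisors_le (Submonoid.powers s) L)
          ⟨_, BlowChartLib.mem_nonZeroDivisors (I := ideal f) (a := f i.down), rfl⟩
      have h1 := congrArg χ.hom ((valid_coord f j.down).rel i.down)
      rw [map_mul, χ.hom.commutes, χ.hom.commutes] at h1
      have h2 := congrArg l.hom ((valid_coord f i.down).rel j.down)
      rw [map_mul, l.hom.commutes, l.hom.commutes] at h2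
      rw [l.hom.commutes] at hn
      have h3 : l.hom d * χ.hom (coord f j.down i.down) = 1 := (mul_cancel_left_mem_nonZeroDivisors hn).1 (by
        rw [← mul_assoc, ← h2, ← h1, mul_one])
      obtain ⟨c, hc⟩ := IsLocalization.surj (Submonoid.powers s) (χ.hom (coord f j.down i.down))
      obtain ⟨n, hn'⟩ := c.2.2
      have h4 : algebraMap (chart f i.down) L (c.2 : chart f i.down) = algebraMap (chart f i.down) L (d * c.1) := by
        rw [map_mul, ← hc, ← mul_assoc]
        rw [show algebraMap (chart f i.down) L d = l.hom d from rfl, h3, one_mul]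
      obtain ⟨⟨_, k, rfl⟩, hk⟩ := IsLocalization.exists_of_eq (M := Submonoid.powers s) h4
      have hmem : s ^ k * (c.2 : chart f i.down) ∈ q.asIdeal := by
        rw [show s ^ k * (c.2 : chart f i.down) = s ^ k * (d * c.1) from hk]
        exact Ideal.mul_mem_left _ _ (Ideal.mul_mem_right _ _ hdp)
      rw [← hn', ← pow_add] at hmem
      exact hqs (q.isPrime.mem_of_pow_mem _ hmem)
    obtain ⟨φ', hφ'⟩ := hfac hu
    obtain ⟨h1, h2⟩ := hmain φ' hφ'
    rw [h] at h1
    haveI : Mono (chartIn f hb j) := Over.mono_of_mono_left _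
    rw [(cancel_mono (chartIn f hb j)).1 h1, testHom_tmap]
    exact h2.symm
  · intro h
    obtain ⟨φ', hφ'⟩ := hfac (((atlas f hf).chart i j A (testHom a)).2 ⟨testHom a', h.symm⟩)
    obtain ⟨h1, h2⟩ := hmain φ' hφ'
    have h5 : testHom a' = τ ≫ φ' := (atlas f hf).inj j A _ _ (h.symm.trans h2.symm)
    rw [h1, ← h5, tmap_testHom]

section iso

variable {S : Scheme.{u}} {J : Type u} {C : J → Over S} {X Y : Over S}

/-- A morphism from a family of open charts. -/
theorem exists_hom_of_charts (ιX : ∀ i, C i ⟶ X) (ιY : ∀ i, C i ⟶ Y) (hopen : ∀ i, IsOpenImmersion (ιX i).left)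
    (hcov : ∀ x : X.left, ∃ (i : J) (z : (C i).left), (ιX i).left z = x)
    (h : ∀ (P : Over S) (i j : J) (a : P ⟶ C i) (a' : P ⟶ C j), a ≫ ιX i = a' ≫ ιX j → a ≫ ιY i = a' ≫ ιY j) :
    ∃ c : X ⟶ Y, ∀ i, ιX i ≫ c = ιY i := by
  let 𝒰 : X.left.OpenCover := Scheme.Cover.mkOfCovers J (fun i => (C i).left) (fun i => (ιX i).left) hcov hopen
  have hcompat : ∀ i j : J, pullback.fst (ιX i).left (ιX j).left ≫ (ιY i).left =
      pullback.snd (ιX i).left (ιX j).left ≫ (ιY j).left := by
    intro i j
    let P : Over S := Over.mk (pullback.fst (ιX i).left (ιX j).left ≫ (C i).hom)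
    let a : P ⟶ C i := Over.homMk (pullback.fst (ιX i).left (ιX j).left) rfl
    let a' : P ⟶ C j := Over.homMk (pullback.snd (ιX i).left (ιX j).left) (by
      show _ = pullback.fst (ιX i).left (ιX j).left ≫ (C i).hom
      rw [← Over.w (ιX i), ← Over.w (ιX j), ← Category.assoc, ← Category.assoc, pullback.condition])
    exact congrArg CommaMorphism.left (h P i j a a' (Over.OverMorphism.ext pullback.condition))
  let c₀ := Scheme.Cover.glueMorphisms 𝒰 (fun i => (ιY i).left) hcompat
  have hc : ∀ i, (ιX i).left ≫ c₀ = (ιY i).left := fun i => Scheme.Cover.ι_glueMorphisms 𝒰 _ hcompat i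
  refine ⟨Over.homMk c₀ (Scheme.Cover.hom_ext 𝒰 _ _ fun i => ?_), fun i => Over.OverMorphism.ext (hc i)⟩
  show (ιX i).left ≫ c₀ ≫ Y.hom = (ιX i).left ≫ X.hom
  rw [← Category.assoc, hc, Over.w, Over.w]

theorem charts_ext (ιX : ∀ i, C i ⟶ X) (hopen : ∀ i, IsOpenImmersion (ιX i).left)
    (hcov : ∀ x : X.left, ∃ (i : J) (z : (C i).left), (ιX i).left z = x) {c c' : X ⟶ Y}
    (h : ∀ i, ιX i ≫ c = ιX i ≫ c') : c = c' :=
  Over.OverMorphism.ext (Scheme.Cover.hom_ext
    (Scheme.Cover.mkOfCovers J (fun i => (C i).left) (fun i => (ιX i).left) hcov hopen : X.left.OpenCover) _ _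
    fun i => congrArg CommaMorphism.left (h i))

end iso

include hf hb in
theorem exists_iso : Nonempty (Over.mk b ≅ glued (atlas f hf)) := by
  let 𝔄 := atlas f hf
  have key : ∀ (P : Over (Spec (CommRingCat.of R))) (i j : 𝔄.J) (a : P ⟶ chartO 𝔄 i) (a' : P ⟶ chartO 𝔄 j),
      a ≫ glι 𝔄 i = a' ≫ glι 𝔄 j ↔ a ≫ chartIn f hb i = a' ≫ chartIn f hb j := by
    intro P i j a a'
    constructor
    · intro h
      refine hom_ext_points fun A g => ?_
      rw [← Category.assoc, ← Category.assoc]
      refine (chartIn_eq_iff f hf hb (g ≫ a) (g ≫ a')).2 ((ev_eq_iff 𝔄 (g ≫ a) (g ≫ a')).1 ?_)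
      rw [Category.assoc, Category.assoc, h]
    · intro h
      refine hom_ext_points fun A g => ?_
      rw [← Category.assoc, ← Category.assoc]
      refine (ev_eq_iff 𝔄 (g ≫ a) (g ≫ a')).2 ((chartIn_eq_iff f hf hb (g ≫ a) (g ≫ a')).1 ?_)
      rw [Category.assoc, Category.assoc, h]
  obtain ⟨c, hc⟩ := exists_hom_of_charts (C := fun i => chartO 𝔄 i) (chartIn f hb) (glι 𝔄)
    (fun i => isOpenImmersion_chartIn f hb i) (chartIn_covers f hb) fun P i j a a' => (key P i j a a').2
  obtain ⟨c', hc'⟩ := exists_hom_of_charts (C := fun i => chartO 𝔄 i) (glι 𝔄) (chartIn f hb)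
    (fun i => glι_isOpenImmersion 𝔄 i) (glι_jointly_surjective 𝔄) fun P i j a a' => (key P i j a a').1
  exact ⟨⟨c, c', charts_ext (C := fun i => chartO 𝔄 i) (chartIn f hb) (fun i => isOpenImmersion_chartIn f hb i)
      (chartIn_covers f hb) (fun i => by rw [← Category.assoc, hc, hc']; exact (Category.comp_id _).symm),
    charts_ext (C := fun i => chartO 𝔄 i) (glι 𝔄) (fun i => glι_isOpenImmersion 𝔄 i)
      (glι_jointly_surjective 𝔄) (fun i => by rw [← Category.assoc, hc', hc]; exact (Category.comp_id _).symm)⟩⟩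

end Groth.Agent.QuotBlowLib
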